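import Groth.Agent.LimTop.PullSec
import Groth.Agent.InfLift.SmoothLift
import Groth.Agent.QCoh.Basic
import Mathlib.RingTheory.IsTensorProduct

/-!
# Locally projective quasi-coherent modules
-/

set_option autoImplicit false

universe u

open CategoryTheory AlgebraicGeometry Opposite TopologicalSpace TensorProduct

namespace Groth.Agent.QProjLib
set_option backward.isDefEq.respectTransparency.types false

open Groth.Agent.LimTop Groth.Agent.QCoh

variable {X Y : Scheme.{u}}

/-- Sections of the pullback of a qcoh module with projective sections are projective. -/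
theorem projective_pullback (g : X ⟶ Y) (M : Y.Modules) [M.IsQuasicoherent] {U : Y.Opens}
    {W : X.Opens} (hU : IsAffineOpen U) (hW : IsAffineOpen W) (h : W ≤ g ⁻¹ᵁ U)
    [Module.Projective Γ(Y, U) Γ(M, U)] :
    Module.Projective Γ(X, W) Γ((Scheme.Modules.pullback g).obj M, W) := by
  letI := (g.appLE U W h).hom.toAlgebra
  letI := secModule g M h
  haveI : IsScalarTower Γ(Y, U) Γ(X, W) Γ((Scheme.Modules.pullback g).obj M, W) :=
    IsScalarTower.of_algebraMap_smul fun _ _ => rfl
  exact Module.Projective.of_equiv' (isBaseChange_unitSec g M h hU hW).equiv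

/-- Transport along an isomorphism of modules. -/
theorem projective_of_iso {M N : X.Modules} (e : M ≅ N) (W : X.Opens)
    [Module.Projective Γ(X, W) Γ(M, W)] : Module.Projective Γ(X, W) Γ(N, W) := by
  let l : Γ(M, W) →ₗ[Γ(X, W)] Γ(N, W) :=
    { toFun := e.hom.app W
      map_add' := map_add _
      map_smul' := fun r x => Scheme.Modules.Hom.app_smul e.hom r x }
  exact Module.Projective.of_equiv' (LinearEquiv.ofBijective l
    (ConcreteCategory.bijective_of_isIso (e.hom.app W)))

/-- Projectivity of sections passes to smaller affine opens. -/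
theorem projective_of_le (M : X.Modules) [M.IsQuasicoherent] {U V : X.Opens} (hU : IsAffineOpen U)
    (hV : IsAffineOpen V) (h : V ≤ U) [Module.Projective Γ(X, U) Γ(M, U)] :
    Module.Projective Γ(X, V) Γ(M, V) :=
  have := projective_pullback (𝟙 X) M hU hV h
  projective_of_iso (((Scheme.Modules.pullbackId X).app M)) V

/-- Projectivity of the sections over an affine open is local. -/
theorem projective_of_local (M : X.Modules) [M.IsQuasicoherent] {U : X.Opens} (hU : IsAffineOpen U)
    (H : ∀ x ∈ U, ∃ V : X.Opens, IsAffineOpen V ∧ x ∈ V ∧ Module.Projective Γ(X, V) Γ(M, V)) :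
    Module.Projective Γ(X, U) Γ(M, U) := by
  classical
  choose V hV hxV hP using H
  have hh : ∀ x : U, ∃ h : Γ(X, U), x.1 ∈ X.basicOpen h ∧
      Module.Projective Γ(X, X.basicOpen h) Γ(M, X.basicOpen h) := fun x => by
    obtain ⟨h, g, hfg, hxf⟩ := exists_basicOpen_le_affine_inter hU (hV x.1 x.2) x.1
      ⟨x.2, hxV x.1 x.2⟩
    have := hP x.1 x.2
    exact ⟨h, hxf, projective_of_le M (hV x.1 x.2) (hU.basicOpen h) (hfg ▸ X.basicOpen_le g)⟩
  choose hf hxh hPh using hh
  have htop : Ideal.span (Set.range hf) = ⊤ := hU.iSup_basicOpen_eq_self_iff.mp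
    (le_antisymm (iSup_le fun a => X.basicOpen_le _) fun y hy =>
      Opens.mem_iSup.mpr ⟨⟨hf ⟨y, hy⟩, ⟨_, rfl⟩⟩, hxh ⟨y, hy⟩⟩)
  obtain ⟨s, hs, h1⟩ := Submodule.mem_span_finite_of_mem_span
    (show (1 : Γ(X, U)) ∈ Submodule.span Γ(X, U) (Set.range hf) from (Ideal.eq_top_iff_one _).mp htop)
  refine Groth.Agent.InfLift.SmoothLift.projective_of_away Γ(M, U) (fun a : s => (a.1 : Γ(X, U))) ?_ ?_
  · rw [Ideal.eq_top_iff_one]
    convert! h1 using 2
    simp
  · intro a
    obtain ⟨x, hx⟩ := hs a.2
    let h : Γ(X, U) := a.1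
    have hPa : Module.Projective Γ(X, X.basicOpen h) Γ(M, X.basicOpen h) := by
      show Module.Projective Γ(X, X.basicOpen a.1) Γ(M, X.basicOpen a.1)
      rw [← hx]; exact hPh x
    let B := Γ(X, X.basicOpen h)
    letI : Algebra Γ(X, U) B := ((𝟙 X : X ⟶ X).appLE U (X.basicOpen h) (X.basicOpen_le h)).hom.toAlgebra
    have hloc : IsLocalization.Away h B := by
      have := hU.isLocalization_basicOpen h
      convert this using 1
      refine Algebra.algebra_ext _ _ fun r => ?_
      show ((𝟙 X : X ⟶ X).appLE U (X.basicOpen h) (X.basicOpen_le h)) r = _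
      rw [Scheme.Hom.appLE]
      rfl
    have hBP : Module.Projective B (B ⊗[Γ(X, U)] Γ(M, U)) := by
      have h1 : Module.Projective B Γ((Scheme.Modules.pullback (𝟙 X)).obj M, X.basicOpen h) :=
        let i : M ≅ (Scheme.Modules.pullback (𝟙 X)).obj M := ((Scheme.Modules.pullbackId X).app M).symm
        projective_of_iso i (X.basicOpen h)
      letI := secModule (𝟙 X) M (show X.basicOpen h ≤ (𝟙 X : X ⟶ X) ⁻¹ᵁ U from X.basicOpen_le h)
      haveI : IsScalarTower Γ(X, U) B Γ((Scheme.Modules.pullback (𝟙 X)).obj M, X.basicOpen h) :=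
        IsScalarTower.of_algebraMap_smul fun _ _ => rfl
      exact Module.Projective.of_equiv'
        (isBaseChange_unitSec (𝟙 X) M (X.basicOpen_le h) hU (hU.basicOpen h)).equiv.symm
    let e := IsLocalization.algEquiv (Submonoid.powers h) B (Localization.Away h)
    letI : Algebra B (Localization.Away h) := e.toAlgHom.toRingHom.toAlgebra
    haveI : IsScalarTower Γ(X, U) B (Localization.Away h) :=
      IsScalarTower.of_algebraMap_eq fun r => (e.commutes r).symm
    exact Module.Projective.of_equiv'
      (AlgebraTensorModule.cancelBaseChange Γ(X, U) B (Localization.Away h) (Localization.Away h)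
        Γ(M, U))

end Groth.Agent.QProjLib
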